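import Mathlib
import Cfsg.Agent.Mrg.Omega.Transv.Point
set_option linter.all false

section


/-!
# Abelian groups on permutation modules over `F₂`: offenders are generated by transpositions

`A` is a finite abelian group acting faithfully on the finite set `Ω`, `V` a vector space over `F₂` with basis
`e p`, `p ∈ Ω`, permuted by `A`. Then `|A| ≤ |V / C_V(A)|` (`card_le`), and in the case of equality all orbits have
length at most 2 and `A` contains the transposition `(x y)` for every orbit `{x, y}` (`exists_swap`).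
-/

set_option autoImplicit false
set_option linter.unusedSectionVars false

namespace Cfsg.Agent.Omega.MutE.Perm

open MulAction Finset

theorem le_two_pow {n : ℕ} (h : 1 ≤ n) : n ≤ 2 ^ (n - 1) := by
  obtain ⟨m, rfl⟩ : ∃ m, n = m + 1 := ⟨n - 1, by omega⟩
  rw [Nat.add_sub_cancel]
  exact Nat.lt_two_pow_self

theorem le_two_of {n : ℕ} (h2 : 2 ^ (n - 1) ≤ n) : n ≤ 2 := by
  by_contra hcon
  push Not at hcon
  obtain ⟨m, rfl⟩ : ∃ m, n = m + 3 := ⟨n - 3, by omega⟩
  have h3 : m + 3 - 1 = m + 2 := by omega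
  rw [h3] at h2
  have h4 : m + 1 ≤ 2 ^ m := Nat.lt_two_pow_self
  have h5 : 2 ^ (m + 2) = 4 * 2 ^ m := by ring
  omega

section perm

variable {A Ω : Type*} [CommGroup A] [Finite A] [Finite Ω] [MulAction A Ω]

/-- the orbits -/
abbrev Orb (A Ω : Type*) [CommGroup A] [MulAction A Ω] := Quotient (orbitRel A Ω)

/-- the length of an orbit -/
noncomputable def len (o : Orb A Ω) : ℕ := (stabilizer A o.out).index

theorem one_le_len (o : Orb A Ω) : 1 ≤ len o := Nat.pos_of_ne_zero Subgroup.index_ne_zero_of_finite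

theorem card_eq_sum [Fintype (Orb A Ω)] : Nat.card Ω = ∑ o : Orb A Ω, len o := by
  rw [Nat.card_congr (selfEquivSigmaOrbitsQuotientStabilizer A Ω), Nat.card_sigma]
  rfl

theorem prod_eq [Fintype (Orb A Ω)] :
    ∏ o : Orb A Ω, 2 ^ (len o - 1) = 2 ^ (Nat.card Ω - Nat.card (Orb A Ω)) := by
  rw [Finset.prod_pow_eq_pow_sum]
  congr 1
  rw [Finset.sum_tsub_distrib _ (fun o _ => one_le_len o), ← card_eq_sum, Finset.sum_const, smul_eq_mul, mul_one,
    Finset.card_univ, Nat.card_eq_fintype_card (α := Orb A Ω)]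

theorem smul_eq_iff (b : A) {x y : Ω} (h : x ∈ orbit A y) : b • x = x ↔ b • y = y := by
  obtain ⟨a, rfl⟩ := h
  change b • a • y = a • y ↔ _
  rw [← mul_smul, mul_comm, mul_smul]
  exact ⟨fun h => (smul_left_cancel _ h), fun h => by rw [h]⟩

theorem out_mem (x : Ω) : x ∈ orbit A (Quotient.mk (orbitRel A Ω) x).out := by
  have h1 : (orbitRel A Ω).r (Quotient.mk (orbitRel A Ω) x).out x := Quotient.mk_out (s := orbitRel A Ω) x
  exact (orbitRel A Ω).symm h1

theorem iInf_eq (hf : ∀ a : A, (∀ x : Ω, a • x = x) → a = 1) : ⨅ o : Orb A Ω, stabilizer A o.out = ⊥ := by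
  rw [eq_bot_iff]
  intro a ha
  rw [Subgroup.mem_iInf] at ha
  exact Subgroup.mem_bot.2 (hf a fun x => (smul_eq_iff a (out_mem x)).2 (ha _))

theorem card_le_prod [Fintype (Orb A Ω)] (hf : ∀ a : A, (∀ x : Ω, a • x = x) → a = 1) :
    Nat.card A ≤ ∏ o : Orb A Ω, len o := by
  have h1 := Subgroup.index_iInf_le fun o : Orb A Ω => stabilizer A o.out
  rw [iInf_eq hf, Subgroup.index_bot] at h1
  exact h1

theorem card_le_pow (hf : ∀ a : A, (∀ x : Ω, a • x = x) → a = 1) :
    Nat.card A ≤ 2 ^ (Nat.card Ω - Nat.card (Orb A Ω)) := by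
  classical
  let _ : Fintype (Orb A Ω) := Fintype.ofFinite _
  rw [← prod_eq]
  exact (card_le_prod hf).trans (Finset.prod_le_prod' fun o _ => le_two_pow (one_le_len o))

/-- the case of equality -/
theorem exists_swap_perm (hf : ∀ a : A, (∀ x : Ω, a • x = x) → a = 1)
    (hle : 2 ^ (Nat.card Ω - Nat.card (Orb A Ω)) ≤ Nat.card A) (a : A) (x : Ω) (hx : a • x ≠ x) :
    ∃ b : A, b • x = a • x ∧ b • a • x = x ∧ ∀ z, z ≠ x → z ≠ a • x → b • z = z := by
  classical
  let _ : Fintype (Orb A Ω) := Fintype.ofFinite _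
  have h1 := card_le_prod (A := A) (Ω := Ω) hf
  have h2 : ∀ o ∈ (Finset.univ : Finset (Orb A Ω)), len o ≤ 2 ^ (len o - 1) := fun o _ =>
    le_two_pow (one_le_len o)
  have h3 : ∏ o : Orb A Ω, len o ≤ ∏ o : Orb A Ω, 2 ^ (len o - 1) := Finset.prod_le_prod' h2
  rw [prod_eq] at h3
  have h4 : Nat.card A = ∏ o : Orb A Ω, len o := le_antisymm h1 (h3.trans hle)
  have h5 : ∀ o : Orb A Ω, len o = 2 ^ (len o - 1) := by
    by_contra hcon
    push Not at hcon
    obtain ⟨o, ho⟩ := hcon
    have h6 : ∏ o : Orb A Ω, len o < ∏ o : Orb A Ω, 2 ^ (len o - 1) :=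
      Finset.prod_lt_prod (fun o _ => one_le_len o) h2 ⟨o, Finset.mem_univ _, lt_of_le_of_ne (h2 o (Finset.mem_univ _)) ho⟩
    rw [prod_eq, ← h4] at h6
    exact absurd hle (not_le_of_gt h6)
  have h6 : ∀ o : Orb A Ω, len o ≤ 2 := fun o => le_two_of (h5 o).symm.le
  -- the natural map
  let f : A → (o : Orb A Ω) → A ⧸ stabilizer A o.out := fun a o => QuotientGroup.mk a
  have hfi : Function.Injective f := by
    intro c d hcd
    have h7 : c⁻¹ * d ∈ ⨅ o : Orb A Ω, stabilizer A o.out := by
      rw [Subgroup.mem_iInf]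
      intro o
      exact QuotientGroup.eq.1 (congrFun hcd o)
    rw [iInf_eq hf, Subgroup.mem_bot] at h7
    exact (inv_mul_eq_one.1 h7)
  have hfs : Function.Surjective f := by
    have h8 : Nat.card ((o : Orb A Ω) → A ⧸ stabilizer A o.out) ≤ Nat.card A := by
      rw [Nat.card_pi, h4]
      exact le_rfl
    exact ((Nat.bijective_iff_injective_and_card f).2 ⟨hfi, le_antisymm (Nat.card_le_card_of_injective f hfi) h8⟩).2
  let o₀ : Orb A Ω := Quotient.mk (orbitRel A Ω) x
  obtain ⟨b, hb⟩ := hfs (fun o => if o = o₀ then QuotientGroup.mk a else QuotientGroup.mk 1)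
  have hb0 : b • o₀.out = a • o₀.out := by
    have h9 := congrFun hb o₀
    simp only [if_true, f] at h9
    have h10 := QuotientGroup.eq.1 h9
    rw [mem_stabilizer_iff, mul_smul, inv_smul_eq_iff] at h10
    exact h10.symm
  have hb1 : ∀ o : Orb A Ω, o ≠ o₀ → b • o.out = o.out := by
    intro o ho
    have h9 := congrFun hb o
    simp only [ho, if_false, f] at h9
    have h10 := QuotientGroup.eq.1 h9
    rw [mul_one] at h10
    rw [mem_stabilizer_iff, inv_smul_eq_iff] at h10
    exact h10.symm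
  have hab : ∀ z ∈ orbit A x, b • z = a • z := by
    intro z hz
    have h11 : (a⁻¹ * b) • o₀.out = o₀.out := by rw [mul_smul, hb0, inv_smul_smul]
    have h12 : (a⁻¹ * b) • z = z := by
      have hz' : z ∈ orbit A o₀.out := by
        have := out_mem (A := A) x
        rw [← orbit_eq_iff] at this
        rw [← this]
        exact hz
      exact (smul_eq_iff _ hz').2 h11
    rw [mul_smul, inv_smul_eq_iff] at h12
    exact h12
  -- the orbit of `x`
  have hcard : (orbit A x).ncard ≤ 2 := by
    have h13 := h6 o₀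
    unfold len at h13
    rw [index_stabilizer] at h13
    have h14 : orbit A o₀.out = orbit A x := (orbit_eq_iff.2 (out_mem x)).symm
    rwa [h14] at h13
  have horb : ∀ z ∈ orbit A x, z = x ∨ z = a • x := by
    intro z hz
    by_contra hcon
    push Not at hcon
    have h15 : ({z, x, a • x} : Set Ω) ⊆ orbit A x := by
      rintro y (rfl | rfl | rfl)
      · exact hz
      · exact mem_orbit_self _
      · exact mem_orbit _ _
    have h16 : ({z, x, a • x} : Set Ω).ncard = 3 :=
      Set.ncard_eq_three.2 ⟨z, x, a • x, hcon.1, hcon.2, fun h => hx h.symm, rfl⟩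
    have h17 := Set.ncard_le_ncard h15 (Set.toFinite _)
    omega
  refine ⟨b, hab x (mem_orbit_self _), ?_, ?_⟩
  · rw [hab _ (mem_orbit _ _)]
    rcases horb (a • a • x) (by rw [← mul_smul]; exact mem_orbit _ _) with h | h
    · exact h
    · exact absurd (smul_left_cancel _ h) hx
  · intro z hz1 hz2
    have hz : z ∉ orbit A x := fun h => by rcases horb z h with h | h; exacts [hz1 h, hz2 h]
    have h18 : (Quotient.mk (orbitRel A Ω) z : Orb A Ω) ≠ o₀ := fun h => hz (Quotient.exact h)
    exact (smul_eq_iff b (out_mem z)).2 (hb1 _ h18)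

end perm

section module

variable {A Ω V : Type*} [CommGroup A] [Finite A] [Finite Ω] [MulAction A Ω] [AddCommGroup V]
  [Module (ZMod 2) V] [DistribMulAction A V]

theorem card_module (e : Module.Basis Ω (ZMod 2) V) : Nat.card V = 2 ^ Nat.card Ω := by
  classical
  let _ : Fintype Ω := Fintype.ofFinite _
  rw [Nat.card_congr e.equivFun.toEquiv, Nat.card_fun, Nat.card_eq_fintype_card (α := ZMod 2), ZMod.card]

theorem coord_smul (e : Module.Basis Ω (ZMod 2) V) (he : ∀ (a : A) (p : Ω), a • e p = e (a • p)) (a : A) (v : V)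
    (p : Ω) : e.repr (a • v) (a • p) = e.repr v p := by
  classical
  let _ : Fintype Ω := Fintype.ofFinite _
  have hz : ∀ (c : ZMod 2) (w : V), a • (c • w) = c • (a • w) := by
    intro c w
    rcases (by revert c; decide : ∀ c : ZMod 2, c = 0 ∨ c = 1) c with rfl | rfl
    · rw [zero_smul, zero_smul, smul_zero]
    · rw [one_smul, one_smul]
  have h1 : a • v = ∑ p, e.repr v p • e (a • p) := by
    conv_lhs => rw [← e.sum_repr v]
    rw [Finset.smul_sum]
    exact Finset.sum_congr rfl fun p _ => by rw [hz, he]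
  have h2 : ∑ p, e.repr v p • e (a • p) = ∑ p, e.repr v (a⁻¹ • p) • e p := by
    refine Fintype.sum_equiv (MulAction.toPerm a) _ _ fun p => ?_
    rw [MulAction.toPerm_apply, inv_smul_smul]
  rw [h1, h2, e.repr_sum_self fun p => e.repr v (a⁻¹ • p)]
  change e.repr v (a⁻¹ • a • p) = _
  rw [inv_smul_smul]

/-- the fixed points of `A` on a permutation module -/
theorem card_fixed_le (e : Module.Basis Ω (ZMod 2) V) (he : ∀ (a : A) (p : Ω), a • e p = e (a • p)) :
    Nat.card {v : V // ∀ a : A, a • v = v} ≤ 2 ^ Nat.card (Orb A Ω) := by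
  classical
  have h1 : Nat.card (Orb A Ω → ZMod 2) = 2 ^ Nat.card (Orb A Ω) := by
    rw [Nat.card_fun, Nat.card_eq_fintype_card (α := ZMod 2), ZMod.card]
  rw [← h1]
  refine Nat.card_le_card_of_injective (fun v o => e.repr v.1 o.out) ?_
  intro v w hvw
  apply Subtype.ext
  apply e.repr.injective
  ext p
  have hc : ∀ v : {v : V // ∀ a : A, a • v = v}, ∀ p : Ω,
      e.repr v.1 p = e.repr v.1 (Quotient.mk (orbitRel A Ω) p).out := by
    intro v p
    obtain ⟨a, ha⟩ := out_mem (A := A) p
    have ha' : a • (Quotient.mk (orbitRel A Ω) p).out = p := ha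
    have h2 := coord_smul e he a v.1 (Quotient.mk (orbitRel A Ω) p).out
    rwa [v.2 a, ha'] at h2
  rw [hc v p, hc w p]
  exact congrFun hvw _

theorem orb_le : Nat.card (Orb A Ω) ≤ Nat.card Ω :=
  Nat.card_le_card_of_surjective (Quotient.mk (orbitRel A Ω)) Quotient.mk_surjective

/-- no over-offenders -/
theorem card_le (e : Module.Basis Ω (ZMod 2) V) (he : ∀ (a : A) (p : Ω), a • e p = e (a • p))
    (hf : ∀ a : A, (∀ v : V, a • v = v) → a = 1) :
    Nat.card A * Nat.card {v : V // ∀ a : A, a • v = v} ≤ Nat.card V := by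
  have hf' : ∀ a : A, (∀ x : Ω, a • x = x) → a = 1 := by
    intro a ha
    refine hf a fun v => ?_
    apply e.repr.injective
    ext p
    have h2 := coord_smul e he a v p
    rwa [ha p] at h2
  calc Nat.card A * Nat.card {v : V // ∀ a : A, a • v = v}
      ≤ 2 ^ (Nat.card Ω - Nat.card (Orb A Ω)) * 2 ^ Nat.card (Orb A Ω) :=
        Nat.mul_le_mul (card_le_pow hf') (card_fixed_le e he)
    _ = Nat.card V := by
        rw [← pow_add, Nat.sub_add_cancel orb_le, card_module e]

/-- offenders contain the transpositions of their orbits -/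
theorem exists_swap (e : Module.Basis Ω (ZMod 2) V) (he : ∀ (a : A) (p : Ω), a • e p = e (a • p))
    (hf : ∀ a : A, (∀ v : V, a • v = v) → a = 1)
    (hoff : Nat.card V ≤ Nat.card A * Nat.card {v : V // ∀ a : A, a • v = v}) (a : A) (x : Ω) (hx : a • x ≠ x) :
    ∃ b : A, b • x = a • x ∧ b • a • x = x ∧ ∀ z, z ≠ x → z ≠ a • x → b • z = z := by
  have hf' : ∀ a : A, (∀ x : Ω, a • x = x) → a = 1 := by
    intro a ha
    refine hf a fun v => ?_
    apply e.repr.injective
    ext p
    have h2 := coord_smul e he a v p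
    rwa [ha p] at h2
  refine exists_swap_perm hf' ?_ a x hx
  have h1 : 2 ^ Nat.card Ω ≤ Nat.card A * 2 ^ Nat.card (Orb A Ω) := by
    rw [← card_module e]
    exact hoff.trans (Nat.mul_le_mul_left _ (card_fixed_le e he))
  have h2 : 2 ^ (Nat.card Ω - Nat.card (Orb A Ω)) * 2 ^ Nat.card (Orb A Ω) ≤
      Nat.card A * 2 ^ Nat.card (Orb A Ω) := by
    rw [← pow_add, Nat.sub_add_cancel orb_le]
    exact h1
  exact Nat.le_of_mul_le_mul_right h2 (Nat.two_pow_pos _)

end module

end Cfsg.Agent.Omega.MutE.Perm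

end

section


/-!
# The FF theorem for minimal parabolics, `q = 2`: the elementary abelian subgroups of `T`

`SymMod P V T k m w`. `T` permutes the points `w i x.succ`, a basis of the span of the points, so `Omega.MutE.Perm`
applies to the elementary abelian subgroups of `T`.

* `odd_iff` : the centraliser of the transvections is the centraliser of `O²(P)`;
* `card_le_span`, `exists_swap_span` : Theorems of `MutE.Perm`;
* `off_struct` : an abelian offender in `T` fixes all the summands and contains the transpositions of its orbits.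
-/

set_option autoImplicit false

namespace Cfsg.Agent.Omega.FFBr.Two

open Subgroup Cfsg.Agent.Omega.Transv

variable {P : Type*} [Group P] {V : Type*} [AddCommGroup V] [Module (ZMod 2) V] [DistribMulAction P V]
  {T : Sylow 2 P} {k m : ℕ} {w : Fin k → Fin (2 ^ m + 1) → V}

variable (h : SymMod P V T k m w)

/-! ### `C_V(O²(P))` -/

theorem exists_third (_hm : 0 < m) (x y : Fin (2 ^ m + 1)) : ∃ z, z ≠ x ∧ z ≠ y := by
  have h3 : 3 ≤ 2 ^ m + 1 := by
    obtain ⟨n, hn⟩ : ∃ n, m = n + 1 := ⟨m - 1, by omega⟩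
    rw [hn, pow_succ]
    have := Nat.one_le_two_pow (n := n)
    omega
  have h4 : ({x, y} : Finset (Fin (2 ^ m + 1))).card < (Finset.univ : Finset (Fin (2 ^ m + 1))).card := by
    rw [Finset.card_univ, Fintype.card_fin]
    exact lt_of_le_of_lt Finset.card_le_two (by omega)
  obtain ⟨z, -, hz⟩ := Finset.exists_mem_notMem_of_card_lt_card h4
  refine ⟨z, ?_, ?_⟩
  · rintro rfl
    simp at hz
  · rintro rfl
    simp at hz

include h in
theorem mem_closure_of_odd [Finite P] {x : P} (hx : Odd (orderOf x)) : x ∈ closure (DD P V) := by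
  obtain ⟨n, hn⟩ := exists_pow_mem closure_normal h.gen x
  have h1 : (orderOf x).Coprime (2 ^ n) := Nat.Coprime.pow_right n (Nat.coprime_two_right.2 hx)
  obtain ⟨l, hl⟩ := exists_pow_eq_self_of_coprime h1.symm
  rw [← hl]
  exact pow_mem hn l

include h in
theorem odd_iff [Finite P] {v : V} :
    v ∈ fixS V (closure (DD P V)) ↔ ∀ x : P, Odd (orderOf x) → x • v = v := by
  constructor
  · intro hv x hx
    exact hv x (mem_closure_of_odd h hx)
  · intro hv
    rw [← crd_eq_zero_iff h]
    have h1 : ∀ i x z, z ≠ x → crd h v i z = crd h v i x := by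
      intro i x z hzx
      obtain ⟨y, hyx, hyz⟩ := exists_third h.m_pos x z
      have h3c := Equiv.Perm.isThreeCycle_swap_mul_swap_same (a := x) (b := y) (c := z) hyx.symm hzx.symm hyz
      set c := Equiv.swap x y * Equiv.swap x z with hc
      have hcz : c z = y := by
        rw [hc, Equiv.Perm.mul_apply, Equiv.swap_apply_right, Equiv.swap_apply_left]
      have hcx : c x = z := by
        rw [hc, Equiv.Perm.mul_apply, Equiv.swap_apply_left, Equiv.swap_apply_of_ne_of_ne hzx hyz.symm]
      obtain ⟨g, -, hg⟩ := exists_lift h (Pi.mulSingle i c)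
      have hg3 : g ^ 3 = 1 := by
        have h5 : Acts w (g ^ 3) 1 1 := by
          intro j y
          rw [pow_succ, pow_two, mul_smul, mul_smul, hg, hg, hg]
          simp only [Equiv.Perm.coe_one, id_eq, Pi.one_apply]
          by_cases hj : j = i
          · subst hj
            rw [Pi.mulSingle_eq_same]
            congr 1
            have h6 : c ^ 3 = 1 := by
              rw [← h3c.orderOf]
              exact pow_orderOf_eq_one c
            have h7 := Equiv.Perm.congr_fun h6 y
            rwa [pow_succ, pow_two, Equiv.Perm.mul_apply, Equiv.Perm.mul_apply] at h7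
          · rw [Pi.mulSingle_eq_of_ne hj]
            rfl
        exact Acts.eq h h5 Acts.one
      have hodd : Odd (orderOf g) := by
        have h6 : orderOf g ∣ 3 := orderOf_dvd_of_pow_eq_one hg3
        exact Odd.of_dvd_nat (by decide) h6
      have h7 := crd_smul h hg v i x
      rw [hv g hodd, Pi.mulSingle_eq_same, hcx] at h7
      exact h7
    funext i x
    have h2 := crd_even h v i
    have h3 : ∀ z, crd h v i z = crd h v i x := by
      intro z
      by_cases hz : z = x
      · rw [hz]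
      · exact h1 i x z hz
    rw [Finset.sum_congr rfl fun z _ => h3 z, Finset.sum_const, Finset.card_univ, Fintype.card_fin, nsmul_eq_mul,
      Nat.cast_add, two_pow_cast h.m_pos, Nat.cast_one, zero_add, one_mul] at h2
    exact h2

/-! ### The action of `T` on the basis -/

include h in
theorem fix_zero {t : P} (ht : t ∈ T) {σ : Equiv.Perm (Fin k)} {τ : Fin k → Equiv.Perm (Fin (2 ^ m + 1))}
    (hg : Acts w t σ τ) (i : Fin k) : τ i 0 = 0 := by
  obtain ⟨j, hj⟩ := h.fix0 t ht i
  rw [hg i 0] at hj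
  exact (w_inj h hj).2

include h in
theorem exists_q {t : P} (ht : t ∈ T) (p : Fin k × Fin (2 ^ m)) :
    ∃ q : Fin k × Fin (2 ^ m), t • w p.1 p.2.succ = w q.1 q.2.succ := by
  obtain ⟨σ, τ, hg⟩ := h.perm t
  have h0 := fix_zero h ht hg p.1
  have h1 : τ p.1 p.2.succ ≠ 0 := by
    intro h2
    rw [← h0] at h2
    exact Fin.succ_ne_zero _ ((τ p.1).injective h2)
  obtain ⟨y, hy⟩ := Fin.exists_succ_eq.2 h1
  exact ⟨(σ p.1, y), by rw [hg, hy]⟩

include h in
theorem wq_inj {p q : Fin k × Fin (2 ^ m)} (hpq : w p.1 p.2.succ = w q.1 q.2.succ) : p = q := by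
  obtain ⟨h1, h2⟩ := w_inj h hpq
  exact Prod.ext h1 (Fin.succ_injective _ h2)

include h in
theorem inv_spn : Inv P (spn w) := by
  intro g v hv
  have h0 : ∀ i x, w i x ∈ spn w := by
    intro i x
    rcases Fin.eq_zero_or_eq_succ x with rfl | ⟨x', rfl⟩
    · rw [w_zero h i]
      exact Submodule.sum_mem _ fun x _ => Submodule.subset_span ⟨(i, x), rfl⟩
    · exact Submodule.subset_span ⟨(i, x'), rfl⟩
  have h1 : spn w ≤ (spn w).comap (lin g : V →ₗ[ZMod 2] V) := by
    rw [spn, Submodule.span_le]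
    rintro _ ⟨p, rfl⟩
    change g • w p.1 p.2.succ ∈ spn w
    obtain ⟨σ, τ, hg⟩ := h.perm g
    rw [hg]
    exact h0 _ _
  exact h1 hv

include h in
theorem eq_one_of_fix {g : P} (hg : ∀ p : Fin k × Fin (2 ^ m), g • w p.1 p.2.succ = w p.1 p.2.succ) : g = 1 := by
  refine h.faithful g fun i x => ?_
  rcases Fin.eq_zero_or_eq_succ x with rfl | ⟨x', rfl⟩
  · rw [w_zero h i, Finset.smul_sum]
    exact Finset.sum_congr rfl fun x _ => hg (i, x)
  · exact hg (i, x')

section abs

variable {A : Type*} [CommGroup A] [Finite A] (ρ : A →* P) (hρ : Function.Injective ρ) (hT : ∀ a, ρ a ∈ T)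

/-- the action on the basis, as a function -/
noncomputable def qf (a : A) (p : Fin k × Fin (2 ^ m)) : Fin k × Fin (2 ^ m) := (exists_q h (hT a) p).choose

omit [Finite A] in
theorem qf_spec (a : A) (p : Fin k × Fin (2 ^ m)) :
    ρ a • w p.1 p.2.succ = w (qf h ρ hT a p).1 (qf h ρ hT a p).2.succ :=
  (exists_q h (hT a) p).choose_spec

/-- the action on the basis -/
@[reducible] noncomputable def actQ : MulAction A (Fin k × Fin (2 ^ m)) where
  smul a p := qf h ρ hT a p
  one_smul p := by
    have h1 := qf_spec h ρ hT 1 p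
    rw [map_one, one_smul] at h1
    exact (wq_inj h h1).symm
  mul_smul a b p := by
    have h1 := qf_spec h ρ hT (a * b) p
    have h2 := qf_spec h ρ hT b p
    have h3 := qf_spec h ρ hT a (qf h ρ hT b p)
    rw [map_mul, mul_smul, h2, h3] at h1
    exact (wq_inj h h1).symm

/-- the action on the span -/
@[reducible] def actW : DistribMulAction A (spn w) where
  smul a v := ⟨ρ a • (v : V), inv_spn h (ρ a) v v.2⟩
  one_smul v := Subtype.ext (by change ρ 1 • (v : V) = v; rw [map_one, one_smul])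
  mul_smul a b v := Subtype.ext (by change ρ (a * b) • (v : V) = ρ a • ρ b • (v : V); rw [map_mul, mul_smul])
  smul_zero a := Subtype.ext (smul_zero (ρ a))
  smul_add a v u := Subtype.ext (smul_add (ρ a) (v : V) u)

include h hρ hT in
theorem card_le_span :
    Nat.card A * Nat.card {v : spn w // ∀ a : A, ρ a • (v : V) = v} ≤ Nat.card (spn w) := by
  let i1 := actQ h ρ hT
  let i2 := actW h ρ
  have h1 := MutE.Perm.card_le (A := A) (Ω := Fin k × Fin (2 ^ m)) (V := spn w) (bas h) (fun a p => ?_) (fun a ha => ?_)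
  · have h2 : Nat.card {v : spn w // ∀ a : A, ρ a • (v : V) = v} = Nat.card {v : spn w // ∀ a : A, a • v = v} :=
      Nat.card_congr (Equiv.subtypeEquivRight fun v => forall_congr' fun a =>
        ⟨fun h3 => Subtype.ext h3, fun h3 => congrArg Subtype.val h3⟩)
    rw [h2]
    exact h1
  · apply Subtype.ext
    change ρ a • (bas h p : V) = (bas h (a • p) : V)
    rw [bas_apply, bas_apply]
    exact qf_spec h ρ hT a p
  · apply hρ
    rw [map_one]
    refine eq_one_of_fix h fun p => ?_
    have h3 := congrArg Subtype.val (ha (bas h p))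
    change ρ a • (bas h p : V) = (bas h p : V) at h3
    rwa [bas_apply] at h3

include h hρ hT in
theorem exists_swap_span
    (hoff : Nat.card (spn w) ≤ Nat.card A * Nat.card {v : spn w // ∀ a : A, ρ a • (v : V) = v}) (a : A)
    (p : Fin k × Fin (2 ^ m)) (hp : ρ a • w p.1 p.2.succ ≠ w p.1 p.2.succ) :
    ∃ b : A, ρ b • w p.1 p.2.succ = ρ a • w p.1 p.2.succ ∧ ρ b • ρ a • w p.1 p.2.succ = w p.1 p.2.succ ∧
      ∀ q : Fin k × Fin (2 ^ m), w q.1 q.2.succ ≠ w p.1 p.2.succ → w q.1 q.2.succ ≠ ρ a • w p.1 p.2.succ →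
        ρ b • w q.1 q.2.succ = w q.1 q.2.succ := by
  let i1 := actQ h ρ hT
  let i2 := actW h ρ
  have hs : ∀ (a : A) (p : Fin k × Fin (2 ^ m)), ρ a • w p.1 p.2.succ = w (a • p).1 (a • p).2.succ :=
    fun a p => qf_spec h ρ hT a p
  have h2 : Nat.card {v : spn w // ∀ a : A, ρ a • (v : V) = v} = Nat.card {v : spn w // ∀ a : A, a • v = v} :=
    Nat.card_congr (Equiv.subtypeEquivRight fun v => forall_congr' fun a =>
      ⟨fun h3 => Subtype.ext h3, fun h3 => congrArg Subtype.val h3⟩)
  rw [h2] at hoff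
  obtain ⟨b, h3, h4, h5⟩ := MutE.Perm.exists_swap (A := A) (Ω := Fin k × Fin (2 ^ m)) (V := spn w) (bas h)
    (fun a p => by
      apply Subtype.ext
      change ρ a • (bas h p : V) = (bas h (a • p) : V)
      rw [bas_apply, bas_apply]
      exact hs a p)
    (fun a ha => by
      apply hρ
      rw [map_one]
      refine eq_one_of_fix h fun p => ?_
      have h3 := congrArg Subtype.val (ha (bas h p))
      change ρ a • (bas h p : V) = (bas h p : V) at h3
      rwa [bas_apply] at h3) hoff a p (fun h0 => hp (by rw [hs, h0]))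
  refine ⟨b, ?_, ?_, fun q hq1 hq2 => ?_⟩
  · rw [hs, hs, h3]
  · rw [hs, hs, h4]
  · rw [hs, h5 q (fun h0 => hq1 (by rw [h0])) (fun h0 => hq2 (by rw [hs, h0]))]

end abs

end Cfsg.Agent.Omega.FFBr.Two

end

section


/-!
# THEOREM E: every mutual pair has a common point (bb OMEGA #10555, helper162)

* `RootAct V A X B q`: the group `A` acts on the elementary abelian group `V` as a product of root
  groups `B i` of order `q` with centres `X i` (the points);
* `match`: `V`, `V'` normalise each other, `RootAct V V' X B q`, `RootAct V' V X' B' q'`: then `q = q'` and the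
  families `X`, `X'` of points are the same up to a bijection.
-/

set_option autoImplicit false

namespace Cfsg.Agent.Omega.MutE

open Subgroup

variable {G : Type*} [Group G]

/-- `A` acts on `V` as a product of root groups `B i` of order `q` with centres `X i`. -/
structure RootAct (V A : Subgroup G) {ι : Type*} (X B : ι → Subgroup G) (q : ℕ) : Prop where
  XV : ∀ i, X i ≤ V
  BA : ∀ i, B i ≤ A
  card : ∀ i, Nat.card (X i) = q
  /-- `[V, B i] ≤ X i` -/
  brk : ∀ i, ∀ a ∈ B i, ∀ v ∈ V, a * v * a⁻¹ * v⁻¹ ∈ X i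
  /-- `[V, a] = X i` for `a ∈ B i` which does not centralise `V` -/
  full : ∀ i, ∀ a ∈ B i, (∃ v ∈ V, a * v ≠ v * a) → ∀ x ∈ X i, ∃ v ∈ V, a * v * a⁻¹ * v⁻¹ = x
  /-- `[v, B i] = X i` for `v ∈ V` not centralised by `B i` -/
  full' : ∀ i, ∀ v ∈ V, (∃ a ∈ B i, a * v ≠ v * a) → ∀ x ∈ X i, ∃ a ∈ B i, a * v * a⁻¹ * v⁻¹ = x
  ne : ∀ i, ∃ a ∈ B i, ∃ v ∈ V, a * v ≠ v * a
  /-- `C_V(A) = C_V(⟨B i⟩)` -/
  gen : ∀ v ∈ V, (∀ i, ∀ a ∈ B i, a * v = v * a) → ∀ a ∈ A, a * v = v * a
  /-- the points are independent -/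
  indep : iSupIndep X

namespace RootAct

variable {V A : Subgroup G} {ι : Type*} {X B : ι → Subgroup G} {q : ℕ}

theorem ne_bot (h : RootAct V A X B q) (i : ι) : X i ≠ ⊥ := by
  intro h0
  obtain ⟨a, ha, v, hv, hav⟩ := h.ne i
  have h1 := h.brk i a ha v hv
  rw [h0, mem_bot] at h1
  exact hav (by rw [mul_inv_eq_one, mul_inv_eq_iff_eq_mul] at h1; exact h1)

theorem X_inj (h : RootAct V A X B q) {i j : ι} (hij : X i = X j) : i = j := by
  by_contra hne
  have h1 : Disjoint (X i) (X j) := h.indep.pairwiseDisjoint hne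
  rw [← hij, disjoint_self] at h1
  exact h.ne_bot i h1

end RootAct

section pair

variable {V V' : Subgroup G} {ι ι' : Type*} {X B : ι → Subgroup G} {X' B' : ι' → Subgroup G} {q q' : ℕ}

theorem exists_le [Finite G] (h : RootAct V V' X B q) (h' : RootAct V' V X' B' q') (i : ι) :
    ∃ j : ι', X' j ≤ X i := by
  obtain ⟨a, ha, v, hv, hav⟩ := h.ne i
  have haV : a ∈ V' := h.BA i ha
  -- `a` is not centralised by some `B' j`
  have h1 : ∃ j, ∃ b ∈ B' j, b * a ≠ a * b := by
    by_contra hcon
    push Not at hcon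
    exact hav (h'.gen a haV hcon v hv).symm
  obtain ⟨j, hj⟩ := h1
  refine ⟨j, fun x hx => ?_⟩
  obtain ⟨b, hb, hbx⟩ := h'.full' j a haV hj x hx
  have h2 := h.brk i a ha b (h'.BA j hb)
  have h3 : x = (a * b * a⁻¹ * b⁻¹)⁻¹ := by rw [← hbx]; group
  rw [h3]
  exact inv_mem h2

theorem q_le [Finite G] (h : RootAct V V' X B q) (h' : RootAct V' V X' B' q') (i : ι) : q' ≤ q := by
  obtain ⟨j, hj⟩ := exists_le h h' i
  rw [← h'.card j, ← h.card i]
  exact Subgroup.card_le_of_le hj

theorem q_eq [Finite G] (h : RootAct V V' X B q) (h' : RootAct V' V X' B' q') (i : ι) : q = q' := by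
  obtain ⟨j, -⟩ := exists_le h h' i
  exact le_antisymm (q_le h' h j) (q_le h h' i)

theorem exists_eq [Finite G] (h : RootAct V V' X B q) (h' : RootAct V' V X' B' q') (i : ι) :
    ∃ j : ι', X i = X' j := by
  obtain ⟨j, hj⟩ := exists_le h h' i
  refine ⟨j, (Subgroup.eq_of_le_of_card_ge hj ?_).symm⟩
  rw [h.card, h'.card, q_eq h h' i]

/-- **THEOREM E**, all points: the points of `V` in `[V, V']` are the points of `V'` in `[V, V']`. -/
theorem exists_equiv [Finite G] (h : RootAct V V' X B q) (h' : RootAct V' V X' B' q') :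
    ∃ σ : ι ≃ ι', ∀ i, X i = X' (σ i) := by
  choose f hf using exists_eq h h'
  choose g hg using exists_eq h' h
  exact ⟨⟨f, g, fun i => h.X_inj (by rw [← hg, ← hf]), fun j => h'.X_inj (by rw [← hf, ← hg])⟩, hf⟩

/-- a mutual pair which does not commute has a point -/
theorem nonempty_of (h : RootAct V V' X B q) (hne : ∃ v ∈ V, ∃ w ∈ V', w * v ≠ v * w) : Nonempty ι := by
  by_contra hcon
  rw [not_nonempty_iff] at hcon
  obtain ⟨v, hv, w, hw, hvw⟩ := hne
  exact hvw (h.gen v hv (fun i => (hcon.false i).elim) w hw)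

end pair

end Cfsg.Agent.Omega.MutE

end
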